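import Groth.Prelude.Def_ModelsG
import Groth.Agent.AbVar.K151.AlgAb
import Groth.Agent.Models.H58.CurveBC
import Groth.Agent.Models.K380.NormBC
import Groth.Agent.Fdesc.GeomAlgClosed
import Groth.Agent.S5934

/-!
# The generic fibre of a family of curves with one smooth closed fibre

`C` a curve over an algebraically closed field, `f : X ⟶ C` proper and flat with one connected smooth fibre of
dimension one. The pullback of `X` to a field-valued point over the generic point of `C` is a smooth proper curve
with only constant functions.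
-/

set_option autoImplicit false
universe u
open CategoryTheory CategoryTheory.Limits AlgebraicGeometry TopologicalSpace IsLocalRing

namespace K118.GenFib

open Groth.Agent

/-- A connected smooth scheme over a field is integral. -/
theorem isIntegral_of_connected {K : Type u} [Field K] {X : Scheme.{u}} (f : X ⟶ Spec (CommRingCat.of K))
    [Smooth f] [ConnectedSpace X] : IsIntegral X := by
  have h1 : IsLocallyNoetherian X := LocallyOfFiniteType.isLocallyNoetherian f
  rw [Groth.Agent.Ega1.GenPts.isIntegral_iff]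
  exact ⟨inferInstance, fun x => (Groth.Agent.Sga4B.SmoothNormal.isNormalScheme_of_smooth f x).1⟩

/-- The part of `f` over an open set over which the fibres are smooth is smooth. -/
theorem smooth_restrict {X C : Scheme.{u}} (f : X ⟶ C) [Flat f] [LocallyOfFinitePresentation f] (V : C.Opens)
    (hV : ∀ y ∈ V, Smooth (f.fiberToSpecResidueField y)) : Smooth (f ∣_ V) := by
  have hfp : ∀ y : C, LocallyOfFinitePresentation (f.fiberToSpecResidueField y) := fun y =>
    inferInstanceAs (LocallyOfFinitePresentation (Limits.pullback.snd f (C.fromSpecResidueField y)))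
  have sq : IsPullback (f ⁻¹ᵁ V).ι (f ∣_ V) f V.ι := (isPullback_morphismRestrict f V).flip
  rw [← Scheme.Hom.smoothLocus_eq_top_iff, eq_top_iff]
  intro x _
  rw [Groth.Agent.Smoothlim.SmoothLocusBC.mem_smoothLocus_iff_of_isPullback sq x (Or.inl (Flat.stalkMap f _)),
    Groth.Agent.S2156.result f]
  refine ⟨Flat.stalkMap f _, ?_⟩
  have h1 : f ((f ⁻¹ᵁ V).ι x) ∈ V := x.2
  rw [Scheme.Hom.smoothLocus_eq_top_iff.mpr (hV _ h1)]
  trivial

/-- A point of the base with values in an open subscheme. -/
theorem exists_lift {X C S Z : Scheme.{u}} (f : X ⟶ C) (V : C.Opens) (h : S ⟶ C) (hh : ∀ x, h x ∈ V)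
    {a : Z ⟶ X} {q : Z ⟶ S} (sq : IsPullback a q f h) :
    ∃ (y : S ⟶ V) (i : Z ⟶ (f ⁻¹ᵁ V : X.Opens)), y ≫ V.ι = h ∧ IsPullback i q (f ∣_ V) y := by
  have hr : Set.range h ⊆ Set.range V.ι := by
    rintro _ ⟨x, rfl⟩
    rw [Scheme.Opens.range_ι]
    exact hh x
  have sq0 : IsPullback (f ⁻¹ᵁ V).ι (f ∣_ V) f V.ι := (isPullback_morphismRestrict f V).flip
  have hy : IsOpenImmersion.lift V.ι h hr ≫ V.ι = h := IsOpenImmersion.lift_fac _ _ _
  refine ⟨IsOpenImmersion.lift V.ι h hr, sq0.lift a (q ≫ IsOpenImmersion.lift V.ι h hr)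
    (by rw [Category.assoc, hy, sq.w]), hy, ?_⟩
  refine IsPullback.of_right (h₁₂ := (f ⁻¹ᵁ V).ι) (v₁₃ := f) (h₂₂ := V.ι) ?_ (sq0.lift_snd _ _ _) sq0
  rw [sq0.lift_fst, hy]
  exact sq

set_option linter.unusedVariables false in
/-- The generic fibre of a proper flat family of curves with one smooth connected closed fibre. -/
theorem generic_fiber (k : Type u) [Field k] [IsAlgClosed k]
    (C : Scheme.{u}) (sC : C ⟶ Spec (CommRingCat.of k)) [LocallyOfFiniteType sC] [IsIntegral C]
    (hdimC : topologicalKrullDim C = 1) (hreg : ∀ x : C, IsRegularLocalRing (C.presheaf.stalk x))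
    (X : Scheme.{u}) (f : X ⟶ C) [IsProper f] [Flat f] (c₁ : C) (hc₁ : IsClosed ({c₁} : Set C))
    (h₁ : ConnectedSpace ↥(f.fiber c₁)) (h₂ : topologicalKrullDim ↥(f.fiber c₁) = 1)
    (h₃ : Smooth (f.fiberToSpecResidueField c₁)) (K : Type u) [Field K] (h : Spec (CommRingCat.of K) ⟶ C)
    (hh : ∀ x, h x = genericPoint C) :
    Curve.IsSmoothProperCurve K (pullback f h) (pullback.snd f h) ∧ IsIso (pullback.snd f h).appTop := by
  have hN : IsLocallyNoetherian C := LocallyOfFiniteType.isLocallyNoetherian sC
  have hfp : LocallyOfFinitePresentation f := K151.AlgAb.locallyOfFinitePresentation_of_noetherian f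
  let V : C.Opens := ⟨{y : C | Smooth (f.fiberToSpecResidueField y)}, Groth.Agent.S5934.result f⟩
  have hc₁V : c₁ ∈ V := h₃
  have hη : genericPoint C ∈ V :=
    (genericPoint_specializes c₁).mem_open V.2 hc₁V
  have hp : Smooth (f ∣_ V) := smooth_restrict f V fun y hy => hy
  have hne : Nonempty V := ⟨⟨c₁, hc₁V⟩⟩
  have hint : IsIntegral V := inferInstance
  have hpre : PreconnectedSpace V := inferInstance
  -- the fibre over the closed point
  obtain ⟨y₁, i₁, hy₁, sq₁⟩ := exists_lift f V (C.fromSpecResidueField c₁)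
    (fun x => by rw [Scheme.fromSpecResidueField_apply]; exact hc₁V)
    (IsPullback.of_hasPullback f (C.fromSpecResidueField c₁))
  have e₁ := (residueFieldIsoBase sC c₁ hc₁).commRingCatIsoToRingEquiv
  have hac : IsAlgClosed (C.residueField c₁) := IsAlgClosed.of_ringEquiv k (C.residueField c₁) e₁.symm
  have hgc₁ : GeometricallyConnected (pullback.snd f (C.fromSpecResidueField c₁)) :=
    @Groth.Agent.Fdesc.GeomAlgClosed.geometricallyConnected_of_connectedSpace (C.residueField c₁) _ hac _
      (f.fiberToSpecResidueField c₁) h₁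
  have hgc : GeometricallyConnected (f ∣_ V) :=
    @K151.AlgAb.geometricallyConnected _ _ (f ∣_ V) _ _ _ (C.residueField c₁) _ _ _ _ _ sq₁ hgc₁
  -- the generic fibre
  obtain ⟨y, i, hy, sq⟩ := exists_lift f V h (fun x => by rw [hh x]; exact hη) (IsPullback.of_hasPullback f h)
  have hsm : Smooth (pullback.snd f h) := MorphismProperty.of_isPullback sq hp
  have hg : GeometricallyConnected (pullback.snd f h) := MorphismProperty.of_isPullback sq hgc
  have hcon : ConnectedSpace ↥(pullback f h) :=
    hgc.geometrically_connectedSpace _ _ _ sq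
  refine ⟨⟨inferInstance, hsm, isIntegral_of_connected (pullback.snd f h), ?_⟩,
    K380.NormBC.isIso_appTop_of_smooth (pullback.snd f h)⟩
  rw [Flat2G.ProperDim.topologicalKrullDim_field_point (f ∣_ V) (Field.toIsField K) _ _ y sq (closedPoint K),
    K151.AlgAb.dim_eq (f ∣_ V) (y (closedPoint K)) (y₁ (closedPoint (C.residueField c₁))),
    ← Flat2G.ProperDim.topologicalKrullDim_field_point (f ∣_ V) (Field.toIsField (C.residueField c₁)) _ _ y₁ sq₁
      (closedPoint (C.residueField c₁))]
  exact h₂

end K118.GenFib
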